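import Mathlib.RingTheory.PowerSeries.Order
import Mathlib.RingTheory.PowerSeries.Inverse
import Mathlib.LinearAlgebra.Dimension.Constructions
import Mathlib.LinearAlgebra.Dimension.RankNullity
import Mathlib.LinearAlgebra.FiniteDimensional.Lemmas

/-! Subalgebras of finite codimension in a product of power series rings: conductor and branch lengths. -/

set_option autoImplicit false
universe u

namespace HilbZetaLib

variable {k : Type u} [Field k] {s : ℕ}

theorem le_order_iff (n : ℕ) (φ : PowerSeries k) : (n : ℕ∞) ≤ φ.order ↔ PowerSeries.X ^ n ∣ φ :=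
  ⟨fun h => PowerSeries.X_pow_dvd_iff.2 fun m hm =>
      PowerSeries.coeff_of_lt_order m (lt_of_lt_of_le (by exact_mod_cast hm) h),
    fun h => PowerSeries.nat_le_order φ n (PowerSeries.X_pow_dvd_iff.1 h)⟩

variable (R : Subalgebra k (Fin s → PowerSeries k)) (c : Fin s → ℕ)

/-- Beyond `v_i(J) + c_i` everything lies in the ideal `J`. -/
theorem mem_of_le_order
    (hc : ∀ f : Fin s → PowerSeries k,
      (∀ g : Fin s → PowerSeries k, g * f ∈ R) ↔ ∀ i, ((c i : ℕ) : ℕ∞) ≤ (f i).order)
    (J : Ideal ↥R) (l : Fin s → ℕ)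
    (hl : ∀ i : Fin s, ∃ f ∈ J, ((f : Fin s → PowerSeries k) i).order = ((l i : ℕ) : ℕ∞))
    (g : Fin s → PowerSeries k) (hg : ∀ i : Fin s, ((l i + c i : ℕ) : ℕ∞) ≤ (g i).order) :
    ∃ hgR : g ∈ R, (⟨g, hgR⟩ : ↥R) ∈ J := by
  classical
  choose f hfJ hfo using hl
  have hcomp : ∀ i, ∃ q : ↥R, q ∈ J ∧ (q : Fin s → PowerSeries k) = Pi.single i (g i) := by
    intro i
    obtain ⟨z, hz⟩ := (le_order_iff _ _).1 (hg i)
    have hf0 : (f i : Fin s → PowerSeries k) i ≠ 0 := fun h0 => by
      have := hfo i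
      rw [h0, PowerSeries.order_zero] at this
      exact ENat.coe_ne_top _ this.symm
    obtain ⟨w, hw⟩ := (le_order_iff (l i) ((f i : Fin s → PowerSeries k) i)).1 (hfo i).ge
    have hu : IsUnit w := by
      rw [PowerSeries.isUnit_iff_constantCoeff, isUnit_iff_ne_zero]
      intro h0
      obtain ⟨w', hw'⟩ := PowerSeries.X_dvd_iff.2 h0
      have hle : ((l i + 1 : ℕ) : ℕ∞) ≤ ((f i : Fin s → PowerSeries k) i).order :=
        (le_order_iff _ _).2 ⟨w', by rw [hw, hw', pow_succ, mul_assoc]⟩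
      rw [hfo i] at hle
      exact absurd (ENat.coe_le_coe.1 hle) (Nat.not_succ_le_self _)
    obtain ⟨wu, rfl⟩ := hu
    let h : Fin s → PowerSeries k := Pi.single i (PowerSeries.X ^ c i * z * ((wu⁻¹ : (PowerSeries k)ˣ) : PowerSeries k))
    have hh : h ∈ R := by
      have := (hc h).2 (fun j => ?_) 1
      · rwa [one_mul] at this
      rcases eq_or_ne j i with rfl | hj
      · rw [le_order_iff]
        simp only [h, Pi.single_eq_same]
        exact (dvd_mul_right _ z).mul_right _
      · simp only [h, Pi.single_eq_of_ne hj, PowerSeries.order_zero, le_top]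
    refine ⟨⟨h, hh⟩ * f i, J.mul_mem_left _ (hfJ i), ?_⟩
    funext j
    change h j * (f i : Fin s → PowerSeries k) j = _
    rcases eq_or_ne j i with rfl | hj
    · simp only [h, Pi.single_eq_same, hz, hw, pow_add]
      linear_combination (PowerSeries.X ^ c j * PowerSeries.X ^ l j * z) * wu.inv_mul
    · simp only [h, Pi.single_eq_of_ne hj, zero_mul]
  choose q hqJ hq using hcomp
  have hsum : ((∑ i, q i : ↥R) : Fin s → PowerSeries k) = g := by
    rw [AddSubmonoidClass.coe_finset_sum]
    simp only [hq]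
    exact Finset.univ_sum_single g
  refine ⟨hsum ▸ (∑ i, q i).2, ?_⟩
  have : (⟨g, hsum ▸ (∑ i, q i).2⟩ : ↥R) = ∑ i, q i := Subtype.ext hsum.symm
  rw [this]
  exact sum_mem fun i _ => hqJ i

/-- The branch lengths of an ideal are attained and bound the orders. -/
theorem branch_spec (I : Ideal ↥R) (a : ℕ) (i : Fin s)
    (ha : Ideal.map ((Pi.evalAlgHom k (fun _ : Fin s => PowerSeries k) i).comp R.val) I =
      Ideal.span {PowerSeries.X ^ a}) :
    (∀ f ∈ I, (a : ℕ∞) ≤ ((f : Fin s → PowerSeries k) i).order) ∧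
      ∃ f ∈ I, ((f : Fin s → PowerSeries k) i).order = (a : ℕ∞) := by
  have h1 : ∀ f ∈ I, (a : ℕ∞) ≤ ((f : Fin s → PowerSeries k) i).order := fun f hf =>
    (le_order_iff _ _).2 (Ideal.mem_span_singleton.1 (ha ▸ Ideal.mem_map_of_mem
      ((Pi.evalAlgHom k (fun _ : Fin s => PowerSeries k) i).comp R.val) hf))
  refine ⟨h1, ?_⟩
  by_contra h
  have hle : Ideal.map ((Pi.evalAlgHom k (fun _ : Fin s => PowerSeries k) i).comp R.val) I ≤
      Ideal.span {PowerSeries.X ^ (a + 1)} := by
    refine Ideal.map_le_iff_le_comap.2 fun f hf => Ideal.mem_span_singleton.2 ?_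
    refine (le_order_iff _ _).1 ?_
    push_cast
    exact Order.add_one_le_of_lt ((h1 f hf).lt_of_ne fun he => h ⟨f, hf, he.symm⟩)
  rw [ha, Ideal.span_singleton_le_span_singleton, PowerSeries.X_pow_dvd_iff] at hle
  simpa [PowerSeries.coeff_X_pow] using hle a (Nat.lt_succ_self a)

/-- The tuples with `i`th order at least `b i`. -/
def tail (b : Fin s → ℕ) : Submodule k (Fin s → PowerSeries k) where
  carrier := {f | ∀ i, PowerSeries.X ^ b i ∣ f i}
  zero_mem' := fun i => dvd_zero _
  add_mem' := fun hf hg i => dvd_add (hf i) (hg i)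
  smul_mem' := fun r f hf i => by
    change PowerSeries.X ^ b i ∣ r • f i
    rw [Algebra.smul_def]
    exact (hf i).mul_left _

theorem mem_tail {b : Fin s → ℕ} {f : Fin s → PowerSeries k} :
    f ∈ tail b ↔ ∀ i, PowerSeries.X ^ b i ∣ f i := Iff.rfl

theorem finrank_quotient_tail (b : Fin s → ℕ) :
    Module.Finite k ((Fin s → PowerSeries k) ⧸ tail (k := k) b) ∧
      Module.finrank k ((Fin s → PowerSeries k) ⧸ tail (k := k) b) = ∑ i, b i := by
  let φ : (Fin s → PowerSeries k) →ₗ[k] ((i : Fin s) → Fin (b i) → k) :=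
    LinearMap.pi fun i => LinearMap.pi fun j => (PowerSeries.coeff (j : ℕ)).comp (LinearMap.proj i)
  have hker : LinearMap.ker φ = tail b := by
    ext f
    simp only [φ, LinearMap.mem_ker, mem_tail, PowerSeries.X_pow_dvd_iff, funext_iff, LinearMap.pi_apply,
      LinearMap.comp_apply, LinearMap.proj_apply, Pi.zero_apply]
    exact ⟨fun h i m hm => h i ⟨m, hm⟩, fun h i j => h i j j.2⟩
  have hsurj : Function.Surjective φ := fun v =>
    ⟨fun i => PowerSeries.mk fun m => if hm : m < b i then v i ⟨m, hm⟩ else 0, by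
      funext i j
      simp [φ]⟩
  let e := (Submodule.quotEquivOfEq _ _ hker.symm).trans (φ.quotKerEquivOfSurjective hsurj)
  exact ⟨Module.Finite.equiv e.symm, by rw [e.finrank_eq, Module.finrank_pi_fintype]; simp⟩

theorem finrank_quotient_le {M : Type u} [AddCommGroup M] [Module k M] {N N' : Submodule k M} (h : N ≤ N')
    (hN : Module.Finite k (M ⧸ N)) :
    Module.Finite k (M ⧸ N') ∧ Module.finrank k (M ⧸ N') ≤ Module.finrank k (M ⧸ N) ∧
      (Module.finrank k (M ⧸ N') = Module.finrank k (M ⧸ N) → N' = N) := by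
  let π : M ⧸ N →ₗ[k] M ⧸ N' := Submodule.mapQ N N' LinearMap.id h
  have hπ : Function.Surjective π := fun z => by
    obtain ⟨m, rfl⟩ := Submodule.mkQ_surjective _ z
    exact ⟨Submodule.Quotient.mk m, rfl⟩
  haveI hN' : Module.Finite k (M ⧸ N') := Module.Finite.of_surjective π hπ
  refine ⟨hN', LinearMap.finrank_le_finrank_of_surjective hπ, fun heq => le_antisymm (fun x hx => ?_) h⟩
  have hinj := (LinearMap.injective_iff_surjective_of_finrank_eq_finrank heq.symm).2 hπ
  have h0 : π (Submodule.Quotient.mk x) = 0 := (Submodule.Quotient.mk_eq_zero N').2 hx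
  rwa [map_eq_zero_iff π hinj, Submodule.Quotient.mk_eq_zero] at h0

end HilbZetaLib
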